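import Mathlib
import Cfsg.Agent.H93.CI.Table
import Cfsg.Agent.H97.Lanes

/-!
Matrices of size 45 over the integers modulo 7 as lists of packed rows, with a product that the
kernel evaluates row by row.
-/

set_option autoImplicit false

namespace H93
namespace ON45

open H97 (pk dig)
open CosetI (force force_eq)

abbrev Mat : Type := Matrix (Fin 45) (Fin 45) (ZMod 7)

/-- square matrices of any size -/
abbrev MatN (N : ℕ) : Type := Matrix (Fin N) (Fin N) (ZMod 7)

/-- the combination of the rows `B` with the lanes of `a` as coefficients -/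
def acc : ℕ → List ℕ → ℕ
  | _, [] => 0
  | a, b :: B => a % 2 ^ 24 * b + acc (a / 2 ^ 24) B

/-- reduce every lane -/
def redRow (N a : ℕ) : ℕ := pk (fun j => dig a j % 7) N

/-- `redRow`, lane by lane from the bottom -/
noncomputable def redF (n : ℕ) : ℕ → ℕ :=
  Nat.rec (motive := fun _ => ℕ → ℕ) (fun _ => 0)
    (fun _ ih a => force a fun a =>
      Nat.add (Nat.mod (Nat.land a 16777215) 7) (Nat.shiftLeft (ih (Nat.shiftRight a 24)) 24)) n

theorem redF_eq : ∀ n a : ℕ, redF n a = redRow n a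
  | 0, _ => rfl
  | n + 1, a => by
    show (force a fun a =>
      Nat.add (Nat.mod (Nat.land a 16777215) 7) (Nat.shiftLeft (redF n (Nat.shiftRight a 24)) 24)) = _
    rw [force_eq, redF_eq n, redRow, redRow, H97.pk_succ']
    show (a &&& (2 ^ 24 - 1)) % 7 + pk _ n <<< 24 = _
    rw [Nat.and_two_pow_sub_one_eq_mod, Nat.shiftLeft_eq, mul_comm (pk _ n) (2 ^ 24)]
    refine congrArg₂ (· + ·) (by rw [dig, Nat.mul_zero, pow_zero, Nat.div_one]) ?_
    refine congrArg (2 ^ 24 * ·) (H97.pk_congr _ fun j _ => ?_)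
    show dig (a >>> (24 * 1)) j % 7 = _
    rw [H97.dig_shift, add_comm]

/-- `acc` with evaluated arguments -/
noncomputable def accF (B : List ℕ) : ℕ → ℕ :=
  List.rec (motive := fun _ => ℕ → ℕ) (fun _ => 0)
    (fun b _ ih a => force a fun a =>
      Nat.add (Nat.mul (Nat.land a 16777215) b) (ih (Nat.shiftRight a 24))) B

theorem accF_eq : ∀ (B : List ℕ) (a : ℕ), accF B a = acc a B
  | [], a => rfl
  | b :: B, a => by
    show (force a fun a => Nat.add (Nat.mul (Nat.land a 16777215) b) (accF B (Nat.shiftRight a 24))) = _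
    rw [force_eq, accF_eq B, acc]
    show (a &&& (2 ^ 24 - 1)) * b + acc (a >>> 24) B = _
    rw [Nat.and_two_pow_sub_one_eq_mod, Nat.shiftRight_eq_div_pow]

/-- the product of codes -/
noncomputable def mulC (N : ℕ) (A B : List ℕ) : List ℕ := A.map fun a => force (accF B a) (redF N)

/-- an entry function on all naturals -/
def ext {N : ℕ} [NeZero N] (f : Fin N → ℕ) (j : ℕ) : ℕ := f (Fin.ofNat N j)

/-- the code of a matrix -/
def enc {N : ℕ} [NeZero N] (M : MatN N) : List ℕ :=
  List.ofFn fun i => pk (ext fun j => (M i j).val) N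

theorem acc_pk : ∀ (n m : ℕ) (h : ℕ → ℕ) (F : ℕ → ℕ → ℕ), (∀ i < n, h i < 2 ^ 24) →
    acc (pk h n) (List.ofFn fun i : Fin n => pk (F i) m) =
      pk (fun j => ∑ i : Fin n, h i * F i j) m := by
  intro n
  induction n with
  | zero =>
    intro m h F _
    simp only [List.ofFn_zero, acc, Fin.sum_univ_zero]
    induction m with
    | zero => rfl
    | succ m ihm => rw [pk, ← ihm]; simp
  | succ n ih =>
    intro m h F hh
    have h0 := hh 0 (Nat.succ_pos n)
    rw [List.ofFn_succ, acc, H97.pk_succ' h n, Nat.add_mul_mod_self_left, Nat.mod_eq_of_lt h0,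
      Nat.add_mul_div_left _ _ (by positivity), Nat.div_eq_of_lt h0, zero_add]
    rw [show (fun i : Fin n => pk (F (i.succ : Fin (n + 1))) m) = fun i : Fin n => pk (F ((i : ℕ) + 1)) m
      from funext fun i => by rw [Fin.val_succ]]
    rw [ih m (fun i => h (i + 1)) (fun i => F (i + 1)) (fun i hi => hh _ (by omega)), Fin.val_zero,
      H97.pk_smul, H97.pk_add]
    refine H97.pk_congr _ fun j _ => ?_
    rw [Fin.sum_univ_succ]
    simp only [Fin.val_succ, Fin.val_zero]

theorem ext_lt {N : ℕ} [NeZero N] {f : Fin N → ℕ} {b : ℕ} (h : ∀ j, f j < b) (j : ℕ) : ext f j < b := h _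

theorem ext_val {N : ℕ} [NeZero N] (f : Fin N → ℕ) (j : Fin N) : ext f j = f j :=
  congrArg f (Fin.ext (by simp [Fin.ofNat, Nat.mod_eq_of_lt j.isLt]))

theorem mulC_enc {N : ℕ} [NeZero N] (hN : N * 36 < 2 ^ 24) (A B : MatN N) :
    mulC N (enc A) (enc B) = enc (A * B) := by
  unfold mulC enc
  rw [List.map_ofFn]
  refine congrArg List.ofFn (funext fun i => ?_)
  simp only [Function.comp, force_eq, accF_eq, redF_eq]
  let F : ℕ → ℕ → ℕ := fun k => ext fun j => (B (Fin.ofNat N k) j).val
  have hF : (fun k : Fin N => pk (ext fun j => (B k j).val) N) = fun k : Fin N => pk (F k) N :=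
    funext fun k => by
      refine congrArg (fun f => pk f N) ?_
      show _ = ext fun j => (B (Fin.ofNat N k) j).val
      rw [show Fin.ofNat N (k : ℕ) = k from Fin.ext (by simp [Fin.ofNat, Nat.mod_eq_of_lt k.isLt])]
  rw [hF, acc_pk N N _ F (fun k _ => lt_trans (ext_lt (fun j => ZMod.val_lt _) k) (by norm_num)),
    redRow]
  refine H97.pk_congr _ fun j hj => ?_
  have hle : ∀ l : ℕ, ∑ k : Fin N, ext (fun k => (A i k).val) k * F k l < 2 ^ 24 := by
    intro l
    refine lt_of_le_of_lt (Finset.sum_le_card_nsmul _ _ 36 fun k _ => ?_) (by simpa using hN)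
    have h1 : ext (fun k => (A i k).val) k < 7 := ext_lt (fun _ => ZMod.val_lt _) _
    have h2 : F k l < 7 := ext_lt (fun _ => ZMod.val_lt _) _
    calc _ ≤ 6 * 6 := Nat.mul_le_mul (by omega) (by omega)
      _ = 36 := rfl
  rw [H97.dig_pk _ _ _ (fun l _ => hle l), if_pos hj]
  show _ = ((A * B) i (Fin.ofNat N j)).val
  rw [Matrix.mul_apply, ← ZMod.val_natCast]
  refine congrArg ZMod.val ?_
  push_cast
  refine Finset.sum_congr rfl fun k _ => ?_
  rw [ext_val]
  show _ * ((ext (fun j => (B (Fin.ofNat N k) j).val) j : ℕ) : ZMod 7) = _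
  rw [show Fin.ofNat N (k : ℕ) = k from Fin.ext (by simp [Fin.ofNat, Nat.mod_eq_of_lt k.isLt])]
  simp [ext]

theorem enc_inj {N : ℕ} [NeZero N] {A B : MatN N} (h : enc A = enc B) : A = B := by
  ext i j
  have h1 := congrFun (List.ofFn_injective h) i
  have h2 := congrArg (fun N => dig N (j : ℕ)) h1
  change dig _ _ = dig _ _ at h2
  rw [H97.dig_pk _ _ _ (fun _ _ => lt_trans (ext_lt (fun _ => ZMod.val_lt _) _) (by norm_num)),
    H97.dig_pk _ _ _ (fun _ _ => lt_trans (ext_lt (fun _ => ZMod.val_lt _) _) (by norm_num)),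
    if_pos j.isLt, if_pos j.isLt, ext_val, ext_val] at h2
  exact ZMod.val_injective _ h2

/-- the matrix of a code -/
def ofCode (L : List ℕ) : Mat := Matrix.of fun i j => (dig (L.getD i 0) j : ZMod 7)

/-- lanes below seven -/
noncomputable def okCode (L : List ℕ) : Bool :=
  Nat.beq L.length 45 && L.all fun a => force a fun a => Nat.beq a (redF 45 a)

theorem enc_ofCode {L : List ℕ} (h : okCode L = true) : enc (ofCode L) = L := by
  simp only [okCode, Bool.and_eq_true, Nat.beq_eq, List.all_eq_true, force_eq, redF_eq] at h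
  refine List.ext_getElem (by simp [enc, h.1]) fun i h1 h2 => ?_
  simp only [enc, List.getElem_ofFn]
  refine Eq.trans ?_ (h.2 L[i] (List.getElem_mem h2)).symm
  refine H97.pk_congr _ fun j hj => ?_
  show ((dig (L.getD i 0) ((Fin.ofNat 45 j : Fin 45) : ℕ) : ZMod 7)).val = _
  rw [ZMod.val_natCast, List.getD_eq_getElem _ _ h2]
  simp [Fin.ofNat, Nat.mod_eq_of_lt hj]

end ON45
end H93
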