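import Mathlib
import Cfsg.Prelude.Def_Sporadic
import Cfsg.Agent.H93.ONOrder
import Cfsg.Agent.H93.ON45.Code
import Cfsg.Agent.H93.ON45.Data

/-!
A triple cover of the presented O'Nan group as matrices of size 45 over the field with seven
elements: the eight matrices satisfy the relators up to scalars, hence give a homomorphism of the
presented group into the linear group modulo the scalars of order three.
-/

set_option autoImplicit false
set_option maxRecDepth 100000

namespace H93
namespace ON45

open CosetI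

/-- the matrix of a letter -/
@[irreducible] def G (g : ℕ) : Mat := ofCode (code g)

/-- the code of a scalar matrix -/
def scalC (k : ℕ) : List ℕ := (List.range 45).map fun i => k * 2 ^ (24 * i)

/-- the code of a product along a word -/
noncomputable def evC : List ℕ → List ℕ
  | [] => scalC 1
  | g :: w => mulC 45 (evC w) (code g)

/-- one row carried along a word -/
noncomputable def evRow (w : List ℕ) (v : ℕ) : ℕ :=
  List.rec (motive := fun _ => ℕ) v (fun g _ ih => force ih fun u => force (accF (code g) u) (redF 45)) w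

/-- the code of a product along a word, row by row -/
noncomputable def evR (w : List ℕ) : List ℕ := (scalC 1).map (evRow w)

theorem evR_eq : ∀ w : List ℕ, evR w = evC w
  | [] => by
    show (scalC 1).map (fun v => v) = scalC 1
    rw [List.map_id']
  | g :: w => by
    rw [evC, ← evR_eq w, mulC, evR, evR, List.map_map]
    refine List.map_congr_left fun v _ => ?_
    show (force (evRow w v) fun u => force (accF (code g) u) (redF 45)) = _
    rw [force_eq]
    rfl

/-- the scalar two -/
@[irreducible] def S : Mat := ofCode (scalC 2)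

theorem codes_ok_all : okCode code0 = true ∧ okCode code1 = true ∧ okCode code2 = true ∧ okCode code3 = true ∧ okCode code4 = true ∧ okCode code5 = true ∧ okCode code6 = true ∧ okCode code7 = true ∧
    okCode (scalC 2) = true := by
  decide +kernel

theorem codes_ok : (∀ g < 8, okCode (code g) = true) ∧ okCode (scalC 2) = true := by
  obtain ⟨h0, h1, h2, h3, h4, h5, h6, h7, h⟩ := codes_ok_all
  refine ⟨fun g hg => ?_, h⟩
  match g, hg with
  | 0, _ => exact h0
  | 1, _ => exact h1
  | 2, _ => exact h2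
  | 3, _ => exact h3
  | 4, _ => exact h4
  | 5, _ => exact h5
  | 6, _ => exact h6
  | 7, _ => exact h7
  | k + 8, h => exact absurd h (by omega)

theorem enc_G {g : ℕ} (hg : g < 8) : enc (G g) = code g := by
  unfold G
  exact enc_ofCode (codes_ok.1 g hg)

theorem enc_S : enc S = scalC 2 := by
  unfold S
  exact enc_ofCode codes_ok.2

theorem enc_one : enc (1 : Mat) = scalC 1 := by decide +kernel

theorem inv_checks : mulC 45 code0 code0 = scalC 1 ∧ mulC 45 code1 code1 = scalC 1 ∧ mulC 45 code2 code2 = scalC 1 ∧ mulC 45 code3 code3 = scalC 1 ∧ mulC 45 code4 code4 = scalC 1 ∧ mulC 45 code5 code5 = scalC 1 ∧ mulC 45 code7 code6 = scalC 1 ∧ mulC 45 code6 code7 = scalC 1 := by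
  decide +kernel

theorem mul_checks : mulC 45 (scalC 2) (mulC 45 (scalC 2) (scalC 2)) = scalC 1 ∧
    scalC 2 ≠ scalC 1 ∧
    ∀ g < 8, mulC 45 (code (ON.iv g)) (code g) = scalC 1 := by
  obtain ⟨h0, h1, h2, h3, h4, h5, h6, h7⟩ := inv_checks
  refine ⟨by decide +kernel, by decide +kernel, fun g hg => ?_⟩
  match g, hg with
  | 0, _ => exact h0
  | 1, _ => exact h1
  | 2, _ => exact h2
  | 3, _ => exact h3
  | 4, _ => exact h4
  | 5, _ => exact h5
  | 6, _ => exact h6
  | 7, _ => exact h7
  | k + 8, h => exact absurd h (by omega)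

theorem rel_letters : ON.relWords.all (fun w => w.all fun g => Nat.blt g 8) = true := by
  decide +kernel

theorem rel_one : (ON.relWords.take 25).all (fun w => decide (evR w = scalC 1)) = true := by
  decide +kernel

theorem rel_four : (ON.relWords.drop 25).all (fun w => decide (evR w = scalC 4)) = true := by
  decide +kernel

theorem rel_codes : ∀ w ∈ ON.relWords, (∀ g ∈ w, g < 8) ∧
    (evC w = scalC 1 ∨ evC w = scalC 4) := by
  intro w hw
  refine ⟨fun g hg => Nat.blt_eq.mp (List.all_eq_true.1 (List.all_eq_true.1 rel_letters w hw) g hg), ?_⟩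
  rw [← List.take_append_drop 25 ON.relWords, List.mem_append] at hw
  rcases hw with h | h
  · exact Or.inl ((evR_eq w).symm.trans (of_decide_eq_true (List.all_eq_true.1 rel_one w h)))
  · exact Or.inr ((evR_eq w).symm.trans (of_decide_eq_true (List.all_eq_true.1 rel_four w h)))

attribute [local irreducible] enc mulC scalC

/-- invertible matrices -/
abbrev U : Type := Matˣ

theorem eq_of_enc {A B : Mat} (L : List ℕ) (hA : enc A = L) (hB : enc B = L) : A = B :=
  enc_inj (hA.trans hB.symm)

theorem hN : 45 * 36 < 2 ^ 24 := by norm_num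

theorem iv_iv : ∀ g < 8, ON.iv g < 8 ∧ ON.iv (ON.iv g) = g := by decide +kernel

theorem G_mul_inv {g : ℕ} (hg : g < 8) : G (ON.iv g) * G g = 1 :=
  eq_of_enc _ (by rw [← mulC_enc hN, enc_G (iv_iv g hg).1, enc_G hg]; exact mul_checks.2.2 g hg) enc_one

theorem S_cube : S * (S * S) = 1 :=
  eq_of_enc _ (by rw [← mulC_enc hN, ← mulC_enc hN, enc_S]; exact mul_checks.1) enc_one

/-- the scalar as a unit -/
def zU : U := ⟨S, S * S, S_cube, by rw [mul_assoc]; exact S_cube⟩

/-- a letter as a unit -/
noncomputable def gU (g : ℕ) : U :=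
  if hg : g < 8 then
    ⟨G g, G (ON.iv g), by
      have := G_mul_inv (iv_iv g hg).1
      rwa [(iv_iv g hg).2] at this, G_mul_inv hg⟩
  else 1

theorem gU_val {g : ℕ} (hg : g < 8) : (gU g : Mat) = G g := by
  rw [gU, dif_pos hg]

theorem enc_ev : ∀ w : List ℕ, (∀ g ∈ w, g < 8) → enc ((ev gU w : U) : Mat) = evC w
  | [], _ => enc_one
  | g :: w, h => by
    rw [ev, Units.val_mul, ← mulC_enc hN, enc_ev w fun a ha => h a (by simp [ha]),
      gU_val (h g (by simp)), enc_G (h g (by simp))]
    rw [evC]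

theorem enc_zU_pow : enc ((zU ^ 1 : U) : Mat) = scalC 2 ∧ enc ((zU ^ 2 : U) : Mat) = scalC 4 := by
  refine ⟨by rw [pow_one]; exact enc_S, ?_⟩
  rw [pow_two, Units.val_mul, ← mulC_enc hN, show enc ((zU : U) : Mat) = scalC 2 from enc_S]
  decide +kernel

theorem zU_cube : zU ^ 3 = 1 := by
  refine Units.ext ?_
  rw [pow_succ, pow_two, Units.val_mul, Units.val_mul, Units.val_one, mul_assoc]
  exact S_cube

theorem zU_ne_one : zU ≠ 1 := fun h => mul_checks.2.1 (by
  have h1 : S = 1 := congrArg Units.val h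
  rw [← enc_S, h1, enc_one])

theorem orderOf_zU : orderOf zU = 3 :=
  haveI : Fact (Nat.Prime 3) := ⟨by norm_num⟩
  orderOf_eq_prime zU_cube zU_ne_one

theorem S_scalar : S = (2 : ZMod 7) • (1 : Mat) := enc_inj (enc_S.trans (by decide +kernel))

theorem zU_central : zU ∈ Subgroup.center U := by
  rw [Subgroup.mem_center_iff]
  intro u
  refine Units.ext ?_
  show (u : Mat) * S = S * (u : Mat)
  rw [S_scalar]
  simp

/-- the scalars of order three -/
noncomputable abbrev Z : Subgroup U := Subgroup.zpowers zU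

instance Z_normal : Z.Normal where
  conj_mem n hn u := by
    have hc : n ∈ Subgroup.center U := (Subgroup.zpowers_le (H := Subgroup.center U)).2 zU_central hn
    rw [Subgroup.mem_center_iff.1 hc u, mul_inv_cancel_right]
    exact hn

theorem ev_rel_mem {w : List ℕ} (h : w ∈ ON.relWords) : ev gU w ∈ Z := by
  obtain ⟨hl, hc⟩ := rel_codes w h
  have key : ∀ k : ℕ, enc ((zU ^ k : U) : Mat) = evC w → ev gU w ∈ Z := fun k hk => by
    rw [show ev gU w = zU ^ k from Units.ext (enc_inj ((enc_ev w hl).trans hk.symm))]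
    exact Subgroup.pow_mem _ (Subgroup.mem_zpowers _) _
  rcases hc with e | e
  · exact key 0 (by rw [pow_zero, Units.val_one, enc_one, e])
  · exact key 2 (by rw [enc_zU_pow.2, e])

/-- the letters modulo scalars -/
noncomputable def q (g : ℕ) : U ⧸ Z := QuotientGroup.mk' Z (gU g)

theorem gU_inv {g : ℕ} (hg : g < 8) : gU (ON.iv g) * gU g = 1 :=
  Units.ext (by rw [Units.val_mul, gU_val hg, gU_val (iv_iv g hg).1]; exact G_mul_inv hg)

theorem q_inv (g : ℕ) (hg : g < 8) : q (ON.iv g) * q g = 1 := by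
  rw [q, q, ← map_mul, gU_inv hg, map_one]

theorem ev_q (w : List ℕ) : ev q w = QuotientGroup.mk' Z (ev gU w) := by
  induction w with
  | nil => simp [ev]
  | cons g w ih => rw [ev, ev, map_mul, ih]; rfl

theorem ev_q_rel {w : List ℕ} (h : w ∈ ON.relWords) : ev q w = 1 := by
  rw [ev_q, QuotientGroup.mk'_apply, QuotientGroup.eq_one_iff]
  exact ev_rel_mem h

theorem rels_hold : ∀ r ∈ Cfsg.Spor.coxRelators Cfsg.Spor.ON.edges ∪ {r | r ∈ Cfsg.Spor.ON.extra},
    FreeGroup.lift (fun a => q (ON.ix a)) r = 1 := by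
  intro r hr
  rw [lift_eq_ev _ q ON.ix ON.iv (fun _ => rfl) (fun a =>
    eq_inv_of_mul_eq_one_left (q_inv (ON.ix a) (by cases a <;> decide)))]
  rcases ON.relCover r (mem_relList.mpr hr) with h | h
  · exact ev_q_rel h
  · have hl : ∀ g ∈ ((wordOf ON.ix ON.iv r).map ON.iv).reverse, g < 8 := (rel_codes _ h).1
    have hl' : ∀ g ∈ wordOf ON.ix ON.iv r, g < 8 := by
      intro g hg
      have h2 := hl (ON.iv g) (List.mem_reverse.2 (List.mem_map.2 ⟨g, hg, rfl⟩))
      by_contra hcon
      have : ON.iv g = g := by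
        unfold ON.iv
        split <;> omega
      omega
    have h1 := ev_q_rel h
    rwa [ev_reverse q (m := 8) (iv := ON.iv) q_inv _ hl', inv_eq_one] at h1

/-- the homomorphism -/
noncomputable def φ : Cfsg.Spor.ON →* U ⧸ Z := PresentedGroup.toGroup rels_hold

theorem φ_gen : ∀ g < 8, φ (ON.gen g) = q g := by
  intro g hg
  have hof : ∀ a, φ (ON.gen (ON.ix a)) = q (ON.ix a) := fun a => by
    rw [ON.gen_ix, φ, PresentedGroup.toGroup.of]
  match g, hg with
  | 0, _ => exact hof .a
  | 1, _ => exact hof .b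
  | 2, _ => exact hof .c
  | 3, _ => exact hof .d
  | 4, _ => exact hof .e
  | 5, _ => exact hof .f
  | 6, _ => exact hof .g
  | 7, _ =>
    show φ (ON.gen 6)⁻¹ = q (ON.iv 6)
    rw [map_inv, show φ (ON.gen 6) = q 6 from hof .g]
    exact (eq_inv_of_mul_eq_one_left (q_inv 6 (by decide))).symm
  | k + 8, h => exact absurd h (by omega)

theorem gU_zero_notMem : gU 0 ∉ Z := by
  intro h
  obtain ⟨k, hk⟩ := (IsOfFinOrder.mem_powers_iff_mem_zpowers (isOfFinOrder_of_finite zU)).2 h
  have hk' : zU ^ (k % 3) = gU 0 := by rw [← orderOf_zU, pow_mod_orderOf]; exact hk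
  have h1 : enc ((zU ^ (k % 3) : U) : Mat) = code 0 := by
    rw [hk', gU_val (show 0 < 8 by decide), enc_G (show 0 < 8 by decide)]
  have hne : code 0 ≠ scalC 1 ∧ code 0 ≠ scalC 2 ∧ code 0 ≠ scalC 4 := by decide +kernel
  have h3 : k % 3 < 3 := Nat.mod_lt _ (by decide)
  rcases (by omega : k % 3 = 0 ∨ k % 3 = 1 ∨ k % 3 = 2) with e | e | e <;> rw [e] at h1
  · rw [pow_zero, Units.val_one, enc_one] at h1; exact hne.1 h1.symm
  · rw [enc_zU_pow.1] at h1; exact hne.2.1 h1.symm
  · rw [enc_zU_pow.2] at h1; exact hne.2.2 h1.symm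

theorem φ_injective : Function.Injective φ := by
  have := ON.isON.1
  rw [← MonoidHom.ker_eq_bot_iff]
  refine (φ.normal_ker.eq_bot_or_eq_top).resolve_right fun h => gU_zero_notMem ?_
  have h1 : φ (ON.gen 0) = 1 := (MonoidHom.mem_ker).1 (h ▸ Subgroup.mem_top _)
  rw [φ_gen 0 (by decide)] at h1
  exact (QuotientGroup.eq_one_iff _).1 h1

theorem not_commutative : ¬ ∀ x y : Cfsg.Spor.ON, x * y = y * x := by
  intro h
  have := ON.finite_ON
  obtain ⟨hs, hc⟩ := ON.isON
  letI : CommGroup Cfsg.Spor.ON := { (inferInstance : Group Cfsg.Spor.ON) with mul_comm := h }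
  have hp := IsSimpleGroup.prime_card (α := Cfsg.Spor.ON)
  rw [hc] at hp
  exact absurd hp (by norm_num)

/-- the determinant of units -/
noncomputable def detU : U →* (ZMod 7)ˣ := Units.map Matrix.detMonoidHom

theorem detU_zU : detU zU = 1 := by
  refine Units.ext ?_
  rw [detU, Units.coe_map, Units.val_one]
  show Matrix.detMonoidHom ((zU : U) : Mat) = 1
  rw [Matrix.coe_detMonoidHom, show ((zU : U) : Mat) = S from rfl]
  rw [S_scalar, Matrix.det_smul, Matrix.det_one, Fintype.card_fin]
  decide +kernel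

theorem det_G {g : ℕ} (hg : g < 8) : Matrix.det (G g) = 1 := by
  have hker : Z ≤ detU.ker := Subgroup.zpowers_le.2 detU_zU
  let ψ : U ⧸ Z →* (ZMod 7)ˣ := QuotientGroup.lift Z detU hker
  have := ON.isON.1
  have htop : (ψ.comp φ).ker = ⊤ := by
    refine ((ψ.comp φ).normal_ker.eq_bot_or_eq_top).resolve_left fun h => not_commutative ?_
    exact fun x y => (MonoidHom.ker_eq_bot_iff _).1 h (by rw [map_mul, map_mul, mul_comm])
  have h1 : ψ (φ (ON.gen g)) = 1 := (MonoidHom.mem_ker).1 (show ON.gen g ∈ (ψ.comp φ).ker from htop ▸ Subgroup.mem_top _)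
  rw [φ_gen g hg] at h1
  have h2 := congrArg Units.val h1
  rw [← gU_val hg]
  exact h2

end ON45
end H93
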