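import Mathlib
import Cfsg.Agent.H93.ON45.Rep

/-!
The subgroup of the special linear group generated by the eight matrices has centre of order three
and central quotient isomorphic to the presented O'Nan group.
-/

set_option autoImplicit false
set_option maxRecDepth 100000

namespace H93
namespace ON45

open CosetI

/-- the special linear group -/
abbrev SL : Type := Matrix.SpecialLinearGroup (Fin 45) (ZMod 7)

/-- a letter of determinant one -/
noncomputable def gS (g : ℕ) : SL := if hg : g < 8 then ⟨G g, det_G hg⟩ else 1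

/-- the cover -/
noncomputable def H : Subgroup SL := Subgroup.closure (gS '' {g | g < 8})

/-- the letters in the cover -/
noncomputable def gH (g : ℕ) : H :=
  if hg : g < 8 then ⟨gS g, Subgroup.subset_closure ⟨g, hg, rfl⟩⟩ else 1

/-- into the invertible matrices -/
noncomputable def ι : H →* U := Matrix.SpecialLinearGroup.toGL.comp H.subtype

theorem ι_injective : Function.Injective ι :=
  Matrix.SpecialLinearGroup.toGL_injective.comp Subtype.val_injective

theorem ι_gH {g : ℕ} (hg : g < 8) : ι (gH g) = gU g := by
  refine Units.ext ?_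
  rw [gU_val hg, gH, dif_pos hg]
  show ((gS g : SL) : Mat) = G g
  rw [gS]
  exact congrArg Subtype.val (dif_pos hg)

/-- the projection -/
noncomputable def π : H →* U ⧸ Z := (QuotientGroup.mk' Z).comp ι

theorem π_range : π.range = φ.range := by
  have h1 : π.range = Subgroup.closure (q '' {g | g < 8}) := by
    have hc : Subgroup.closure (gH '' {g | g < 8}) = ⊤ := by
      apply Subgroup.map_injective H.subtype_injective
      rw [MonoidHom.map_closure, ← MonoidHom.range_eq_map, Subgroup.range_subtype, Set.image_image]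
      show Subgroup.closure _ = Subgroup.closure (gS '' {g | g < 8})
      refine congrArg Subgroup.closure (Set.image_congr fun g hg => ?_)
      show (gH g : SL) = gS g
      rw [gH, dif_pos (show g < 8 from hg)]
    rw [MonoidHom.range_eq_map, ← hc, MonoidHom.map_closure, Set.image_image]
    refine congrArg Subgroup.closure (Set.image_congr fun g hg => ?_)
    show QuotientGroup.mk' Z (ι (gH g)) = q g
    rw [ι_gH hg, q]
  have h2 : φ.range = Subgroup.closure (q '' {g | g < 8}) := by
    rw [MonoidHom.range_eq_map, ← ON.model.generates, MonoidHom.map_closure, Set.image_image]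
    exact congrArg Subgroup.closure (Set.image_congr fun g hg => φ_gen g hg)
  rw [h1, h2]

/-- the quotient of the cover by the scalars -/
noncomputable def quotientIso : H ⧸ π.ker ≃* Cfsg.Spor.ON :=
  ((QuotientGroup.quotientKerEquivRange π).trans (MulEquiv.subgroupCongr π_range)).trans
    (MonoidHom.ofInjective φ_injective).symm

theorem mem_ker_iff {x : H} : x ∈ π.ker ↔ ι x ∈ Z := QuotientGroup.eq_one_iff _

theorem card_ker : Nat.card π.ker = 3 := by
  let f : π.ker → Z := fun x => ⟨ι x, mem_ker_iff.1 x.2⟩
  have hf : Function.Injective f := fun a b h => Subtype.ext (ι_injective (congrArg Subtype.val h))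
  have hZ : Nat.card Z = 3 := by rw [Nat.card_zpowers, orderOf_zU]
  refine (Nat.card_congr (Equiv.ofBijective f ⟨hf, ?_⟩)).trans hZ
  -- the relator with a nontrivial scalar
  let w : List ℕ := [6, 3, 2, 1, 6, 3, 2, 1, 6, 3, 2, 1, 6, 3, 2, 1, 6, 3, 2, 1]
  have hw : ∀ g ∈ w, g < 8 := by decide
  have hι : ∀ v : List ℕ, (∀ g ∈ v, g < 8) → ι (ev gH v) = ev gU v := by
    intro v
    induction v with
    | nil => intro _; exact map_one ι
    | cons g v ih =>
      intro hv
      rw [ev, ev, map_mul, ih (fun a ha => hv a (by simp [ha])), ι_gH (hv g (by simp))]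
  have hval : ev gU w = zU ^ 2 :=
    Units.ext (enc_inj ((enc_ev w hw).trans (((evR_eq w).symm.trans (by decide +kernel)).trans enc_zU_pow.2.symm)))
  have hz : zU = (ι (ev gH w)) ^ 2 := by
    rw [hι w hw, hval, ← pow_mul, show 2 * 2 = 3 + 1 from rfl, pow_succ, zU_cube, one_mul]
  rintro ⟨u, hu⟩
  obtain ⟨k, rfl⟩ := Subgroup.mem_zpowers_iff.1 hu
  have hmem : ((ev gH w) ^ 2) ^ k ∈ π.ker := mem_ker_iff.2 (by
    rw [map_zpow, map_pow, ← hz]; exact hu)
  exact ⟨⟨_, hmem⟩, Subtype.ext (show ι (((ev gH w) ^ 2) ^ k) = zU ^ k by rw [map_zpow, map_pow, ← hz])⟩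

theorem center_eq : Subgroup.center H = π.ker := by
  refine le_antisymm (fun x hx => ?_) fun x hx => ?_
  · have := ON.isON.1
    have h1 : quotientIso (QuotientGroup.mk x) ∈ Subgroup.center Cfsg.Spor.ON := by
      rw [Subgroup.mem_center_iff]
      intro y
      obtain ⟨z, rfl⟩ := quotientIso.surjective y
      induction z using QuotientGroup.induction_on with
      | _ z =>
        rw [← map_mul, ← map_mul, ← QuotientGroup.mk_mul, ← QuotientGroup.mk_mul,
          Subgroup.mem_center_iff.1 hx z]
    have h2 : Subgroup.center Cfsg.Spor.ON = ⊥ := by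
      refine ((inferInstance : (Subgroup.center Cfsg.Spor.ON).Normal).eq_bot_or_eq_top).resolve_right
        fun h => not_commutative fun a b => ?_
      exact (Subgroup.mem_center_iff.1 (h ▸ Subgroup.mem_top b) a)
    rw [h2, Subgroup.mem_bot] at h1
    exact (QuotientGroup.eq_one_iff x).1 (quotientIso.map_eq_one_iff.1 h1)
  · rw [Subgroup.mem_center_iff]
    intro y
    refine ι_injective ?_
    obtain ⟨k, hk⟩ := Subgroup.mem_zpowers_iff.1 (mem_ker_iff.1 hx)
    rw [map_mul, map_mul, ← hk]
    exact Subgroup.mem_center_iff.1 (zpow_mem zU_central k) (ι y)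

theorem triple_cover :
    Nat.card (Subgroup.center H) = 3 ∧ Cfsg.IsON (H ⧸ Subgroup.center H) := by
  refine ⟨by rw [center_eq, card_ker], ?_⟩
  obtain ⟨hs, hc⟩ := ON.isON
  let e : H ⧸ Subgroup.center H ≃* Cfsg.Spor.ON :=
    (QuotientGroup.quotientMulEquivOfEq center_eq).trans quotientIso
  exact ⟨e.isSimpleGroup, by rw [Nat.card_congr e.toEquiv, hc]⟩

end ON45
end H93
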